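import Groth.Agent.Deform.MultEq.Local
import Groth.Agent.GrpSchLib.ConjCentral
import Groth.Agent.Deform.QuasiIsotrivial
import Groth.Agent.Deform.MultHopf
import Mathlib.AlgebraicGeometry.SpreadingOut

/-!
# Homomorphisms from groups of multiplicative type which agree on a central fibre agree nearby (IX 5.1)
-/

set_option autoImplicit false
set_option linter.style.haveILetI false
set_option linter.unusedSectionVars false
set_option backward.isDefEq.respectTransparency false
set_option backward.isDefEq.respectTransparency.types false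

universe u

open CategoryTheory CategoryTheory.Limits MonoidalCategory CartesianMonoidalCategory AlgebraicGeometry

open scoped MonObj

attribute [local instance] CategoryTheory.Hom.monoid CategoryTheory.Hom.group

namespace Groth.Agent.Deform.MultEq

open GrpSchLib.DiagActionRigid (sp spm)
open GrpSchLib.FixedLocus (FixedPt)
open DSPtsLib (CoordM)

variable {S : Scheme.{u}} {H G : Over S} [GrpObj H] [GrpObj G] (u v : H ⟶ G) [IsMonHom u] [IsMonHom v]

/-- The action of `H` by `u` on the left and `v` on the right. -/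
noncomputable def twoSided : AlgGrp.Action H G where
  act := (fst H G ≫ u) * snd H G * (fst H G ≫ v)⁻¹
  one_act := by
    rw [MonObj.comp_mul, MonObj.comp_mul, GrpObj.comp_inv, whiskerRight_fst_assoc, whiskerRight_fst_assoc,
      whiskerRight_snd, IsMonHom.one_hom, IsMonHom.one_hom, toUnit_unique (fst (𝟙_ (Over S)) G) (toUnit _),
      ← Hom.one_def, _root_.one_mul, inv_one, _root_.mul_one, leftUnitor_hom]
  mul_act := by
    have hu : μ[H] ≫ u = (fst H H ≫ u) * (snd H H ≫ u) := by
      rw [IsMonHom.mul_hom, Hom.mul_def]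
      congr 1
    have hv : μ[H] ≫ v = (fst H H ≫ v) * (snd H H ≫ v) := by
      rw [IsMonHom.mul_hom, Hom.mul_def]
      congr 1
    simp only [MonObj.comp_mul, GrpObj.comp_inv, whiskerRight_fst_assoc, whiskerRight_snd, whiskerLeft_fst_assoc,
      whiskerLeft_snd, whiskerLeft_snd_assoc, associator_hom_fst_assoc, associator_hom_snd_fst_assoc,
      associator_hom_snd_snd, hu, hv, _root_.mul_inv_rev, _root_.mul_assoc]

theorem twoSided_apply {Y : Over S} (h : Y ⟶ H) (g : Y ⟶ G) :
    lift h g ≫ (twoSided u v).act = (h ≫ u) * g * (h ≫ v)⁻¹ := by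
  show lift h g ≫ ((fst H G ≫ u) * snd H G * (fst H G ≫ v)⁻¹) = _
  rw [MonObj.comp_mul, MonObj.comp_mul, GrpObj.comp_inv, lift_fst_assoc, lift_fst_assoc, lift_snd]

/-- The hypothesis on a fibre: equal there, and central. -/
def EqCentralAt (s : S) : Prop :=
  (Over.pullback (S.fromSpecResidueField s)).map u = (Over.pullback (S.fromSpecResidueField s)).map v ∧
    ∀ (X : Over (Spec (S.residueField s))) (g : X ⟶ Red.bc (S.fromSpecResidueField s) G)
      (h : X ⟶ Red.bc (S.fromSpecResidueField s) H),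
      g * (h ≫ (Over.pullback (S.fromSpecResidueField s)).map u) =
        (h ≫ (Over.pullback (S.fromSpecResidueField s)).map u) * g

variable {u v}

theorem EqCentralAt.fixed {s : S} (hs : EqCentralAt u v s) (Y : Over S) (q : Y ⟶ Over.mk (S.fromSpecResidueField s))
    (h : Y ⟶ H) (g : Y ⟶ G) : lift h g ≫ (twoSided u v).act = g := by
  have hc := (GrpSchLib.ConjCentral.fixed_iff u h g).mp (GrpSchLib.ConjCentral.fixed_of_fibre hs.2 Y q h g)
  let j := S.fromSpecResidueField s
  let X' : Over (Spec (S.residueField s)) := Over.mk q.left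
  let e : Y ⟶ (Over.map j).obj X' := Over.homMk (𝟙 _) (by
    show 𝟙 _ ≫ q.left ≫ j = Y.hom
    rw [Category.id_comp]; exact Over.w q)
  let e' : (Over.map j).obj X' ⟶ Y := Over.homMk (𝟙 _) (by
    show 𝟙 _ ≫ Y.hom = q.left ≫ j
    rw [Category.id_comp]; exact (Over.w q).symm)
  have hee : e ≫ e' = 𝟙 _ := Over.OverMorphism.ext (Category.id_comp _)
  obtain ⟨h₁, hh₁⟩ := (DSPtsLib.theta_bijective (H := H) (Y := X') j).2 (e' ≫ h)
  have huv : h ≫ u = h ≫ v := by
    have hn : ∀ w : H ⟶ G, DSPtsLib.theta (H := G) j (h₁ ≫ (Over.pullback j).map w) = e' ≫ h ≫ w := fun w => by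
      rw [← Category.assoc, ← hh₁]
      exact (Over.mapPullbackAdj j).homEquiv_naturality_right_symm h₁ w
    have h2 : e ≫ DSPtsLib.theta (H := G) j (h₁ ≫ (Over.pullback j).map u) =
        e ≫ DSPtsLib.theta (H := G) j (h₁ ≫ (Over.pullback j).map v) := by rw [hs.1]
    rw [hn, hn] at h2
    rwa [reassoc_of% hee, reassoc_of% hee] at h2
  rw [twoSided_apply, ← huv, ← hc, mul_inv_cancel_right]

/-- Over a scheme `U` the restrictions agree as soon as the unit is fixed. -/
theorem map_eq_of_fixed {U : Scheme.{u}} (b : U ⟶ S) (h : ∀ (Y : Over S) (_ : Y ⟶ Over.mk b) (y : Y ⟶ H),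
    lift y 1 ≫ (twoSided u v).act = 1) : (Over.pullback b).map u = (Over.pullback b).map v := by
  apply (DSPtsLib.theta_bijective b).injective
  have hθ : ∀ w : H ⟶ G, DSPtsLib.theta b ((Over.pullback b).map w) =
      DSPtsLib.theta b (𝟙 (Red.bc b H)) ≫ w := fun w => by
    conv_lhs => rw [← Category.id_comp ((Over.pullback b).map w)]
    exact (Over.mapPullbackAdj b).homEquiv_naturality_right_symm _ w
  have h1 := h _ (Over.homMk (Red.bc b H).hom rfl) (DSPtsLib.theta b (𝟙 (Red.bc b H)))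
  rw [twoSided_apply, _root_.mul_one, mul_inv_eq_one] at h1
  rw [hθ, hθ, h1]

/-- The target being locally of finite type, agreement and centrality on a fibre give agreement nearby. -/
theorem exists_nhd_of_lft [LocallyOfFiniteType G.hom] (hH : SGA3x.IsMultTypeFT H) {s : S} (hs : EqCentralAt u v s) :
    ∃ U : S.Opens, s ∈ U ∧ (Over.pullback U.ι).map u = (Over.pullback U.ι).map v := by
  obtain ⟨E, hE, hmem⟩ := GrpSchLib.FixedLocus.exists_locus (a := twoSided u v) hH
  let η₀ : S ⟶ G.left := η[G].left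
  have hη : ∀ t, G.hom (η₀ t) = t := fun t => by
    rw [← Scheme.Hom.comp_apply, show η₀ ≫ G.hom = 𝟙 S from Over.w η[G]]
    rfl
  refine ⟨η₀ ⁻¹ᵁ E, hmem (η₀ s) fun Y q h g => ?_, map_eq_of_fixed _ fun Y q y => ?_⟩
  · revert q
    rw [hη s]
    exact fun q => hs.fixed Y q h g
  · have hr : Set.range (1 : Y ⟶ G).left ⊆ Set.range E.ι := by
      rintro _ ⟨p, rfl⟩
      rw [Scheme.Opens.range_ι, show (1 : Y ⟶ G).left = Y.hom ≫ η₀ from rfl, Scheme.Hom.comp_apply,
        ← Over.w q, Scheme.Hom.comp_apply]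
      exact (q.left p).2
    let l : Y ⟶ Over.mk (E.ι ≫ G.hom) := Over.homMk (IsOpenImmersion.lift E.ι (1 : Y ⟶ G).left hr) (by
      show _ ≫ E.ι ≫ G.hom = Y.hom
      rw [IsOpenImmersion.lift_fac_assoc, Over.w (1 : Y ⟶ G)])
    have he : l ≫ Over.homMk E.ι rfl = 1 := Over.OverMorphism.ext (IsOpenImmersion.lift_fac _ _ _)
    have h1 := hE Y l y
    rwa [he] at h1

set_option maxHeartbeats 1600000 in
/-- The base being locally Noetherian, agreement and centrality on a fibre give agreement nearby. -/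
theorem exists_nhd_of_noetherian [IsLocallyNoetherian S] (hH : SGA3x.IsMultTypeFT H) {s : S}
    (hs : EqCentralAt u v s) : ∃ U : S.Opens, s ∈ U ∧ (Over.pullback U.ι).map u = (Over.pullback U.ι).map v := by
  obtain ⟨S', f, M, iM, hf, ⟨s', hs'⟩, hM, ⟨e⟩⟩ := QuasiIsotrivial.exists_etale_split hH s
  haveI := hf
  haveI := hM
  haveI : IsLocallyNoetherian S' := LocallyOfFiniteType.isLocallyNoetherian f
  let R : Type u := S'.presheaf.stalk s'
  haveI : IsNoetherianRing R := inferInstanceAs (IsNoetherianRing (S'.presheaf.stalk s'))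
  haveI : IsLocalRing R := inferInstanceAs (IsLocalRing (S'.presheaf.stalk s'))
  let β : Spec (CommRingCat.of R) ⟶ S := S'.fromSpecStalk s' ≫ f
  obtain ⟨χ, hnat, hmul, hbij⟩ := GrpSchLib.SubgroupFactor.exists_char (β := β) f e (S'.fromSpecStalk s') rfl
  haveI : (IsLocalRing.maximalIdeal R).IsMaximal := IsLocalRing.maximalIdeal.isMaximal R
  letI := Ideal.Quotient.field (IsLocalRing.maximalIdeal R)
  let K := R ⧸ IsLocalRing.maximalIdeal R
  let bK : Spec (CommRingCat.of K) ⟶ S := Spec.map (CommRingCat.ofHom (Ideal.Quotient.mk _)) ≫ β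
  have hbK : bK (IsLocalRing.closedPoint K) = s := by
    show (Spec.map _ ≫ S'.fromSpecStalk s' ≫ f) _ = _
    rw [Scheme.Hom.comp_apply, Scheme.Hom.comp_apply]
    refine (congrArg f ((congrArg (S'.fromSpecStalk s') (PrimeSpectrum.ext ?_)).trans
      (Scheme.fromSpecStalk_closedPoint (X := S') (x := s')))).trans hs'
    show Ideal.comap (Ideal.Quotient.mk (IsLocalRing.maximalIdeal R)) (IsLocalRing.maximalIdeal K) =
      IsLocalRing.maximalIdeal R
    rw [IsLocalRing.maximalIdeal_eq_bot, ← RingHom.ker_eq_comap_bot, Ideal.mk_ker]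
  rw [← hbK] at hs
  -- agreement over the local ring
  have hloc : ∀ (T : Type u) [CommRing T] [Algebra R T] (p : sp β T ⟶ H), p ≫ u = p ≫ v := by
    intro T _ _ p
    obtain ⟨c, rfl⟩ := (hbij T).2 p
    have h := fixed_of_closedFibre_noetherian (twoSided u v) χ hnat hmul (fun T' _ _ hT' c' z => by
      refine hs.fixed _ (Over.homMk (Spec.map (CommRingCat.ofHom (Ideal.Quotient.lift _ (algebraMap R T') hT')) ≫
        Spec.map (Scheme.descResidueField (Scheme.stalkClosedPointTo bK))) ?_) _ _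
      show (_ ≫ _) ≫ S.fromSpecResidueField _ = Spec.map (CommRingCat.ofHom (algebraMap R T')) ≫ β
      rw [Category.assoc, Scheme.descResidueField_stalkClosedPointTo_fromSpecResidueField]
      show _ ≫ Spec.map _ ≫ β = _
      rw [← Spec.map_comp_assoc, ← CommRingCat.ofHom_comp]
      rfl) 1 T c
    rw [MonObj.comp_one, twoSided_apply, _root_.mul_one, mul_inv_eq_one] at h
    exact h
  -- spreading out on the split cover
  haveI hHl : LocallyOfFiniteType H.hom := by
    haveI := MultTypeFlat.lfp hH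
    infer_instance
  haveI hHa : IsAffineHom H.hom := isAffineHom (isMultType_of_ft hH)
  let P := pullback H.hom f
  let g' : P ⟶ S' := pullback.snd H.hom f
  haveI : LocallyOfFiniteType g' := MorphismProperty.pullback_snd (P := @LocallyOfFiniteType) H.hom f hHl
  haveI : IsAffineHom g' := MorphismProperty.pullback_snd (P := @IsAffineHom) H.hom f hHa
  haveI : IsLocallyNoetherian P := LocallyOfFiniteType.isLocallyNoetherian g'
  let u' := pullback.fst H.hom f ≫ u.left
  let v' := pullback.fst H.hom f ≫ v.left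
  have hpt : ∀ x : P, g' x ⤳ s' → P.fromSpecStalk x ≫ u' = P.fromSpecStalk x ≫ v' := by
    intro x hx
    let ρ : S'.presheaf.stalk s' ⟶ P.presheaf.stalk x := S'.presheaf.stalkSpecializes hx ≫ g'.stalkMap x
    letI : Algebra R (P.presheaf.stalk x) := ρ.hom.toAlgebra
    let p : sp β (P.presheaf.stalk x) ⟶ H := Over.homMk (P.fromSpecStalk x ≫ pullback.fst H.hom f) (by
      show (_ ≫ _) ≫ H.hom = Spec.map ρ ≫ S'.fromSpecStalk s' ≫ f
      rw [Category.assoc, pullback.condition, Spec.map_comp, Category.assoc,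
        Scheme.SpecMap_stalkSpecializes_fromSpecStalk_assoc, Scheme.SpecMap_stalkMap_fromSpecStalk_assoc])
    have h := congrArg CommaMorphism.left (hloc _ p)
    simp only [Over.comp_left] at h
    simpa [p, u', v'] using h
  have hnear : ∀ x : P, g' x ⤳ s' → ∃ O : P.Opens, x ∈ O ∧ O.ι ≫ u' = O.ι ≫ v' := fun x hx =>
    spread_out_unique_of_isGermInjective' u' v' (hpt x hx)
  choose O hxO hO using hnear
  let O' : P.Opens := ⨆ (x : P) (hx : g' x ⤳ s'), O x hx
  obtain ⟨V, hV, hsV, -⟩ := exists_isAffineOpen_mem_and_subset (show s' ∈ (⊤ : S'.Opens) from trivial)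
  let W : P.Opens := g' ⁻¹ᵁ V
  have hW : IsAffineOpen W := hV.preimage g'
  let σ := g'.appLE V W le_rfl
  have hσ : Spec.map σ ≫ hV.fromSpec = hW.fromSpec ≫ g' := IsAffineOpen.SpecMap_appLE_fromSpec g' hV hW le_rfl
  let p := hV.primeIdealOf ⟨s', hsV⟩
  obtain ⟨J, hJ⟩ := (PrimeSpectrum.isClosed_iff_zeroLocus_ideal _).mp (hW.fromSpec ⁻¹ᵁ O').isOpen.isClosed_compl
  obtain ⟨r, hr, hrJ⟩ : ∃ r ∉ p.asIdeal, σ.hom r ∈ J := by
    by_contra hne
    have hd : Disjoint (J : Set Γ(P, W)) (p.asIdeal.primeCompl.map σ.hom : Set Γ(P, W)) := by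
      rw [Set.disjoint_right]
      rintro _ ⟨r, hr, rfl⟩ hrJ
      exact hne ⟨r, hr, hrJ⟩
    obtain ⟨q, hq, hJq, hqd⟩ := Ideal.exists_le_prime_disjoint J (p.asIdeal.primeCompl.map σ.hom) hd
    let q₀ : Spec Γ(P, W) := ⟨q, hq⟩
    have hsp : g' (hW.fromSpec q₀) ⤳ s' := by
      rw [← Scheme.Hom.comp_apply, ← hσ, Scheme.Hom.comp_apply]
      refine (Specializes.map (y := p) ?_ hV.fromSpec.continuous).trans
        (specializes_of_eq (hV.fromSpec_primeIdealOf ⟨s', hsV⟩))
      refine (PrimeSpectrum.le_iff_specializes _ _).mp fun r hr => ?_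
      by_contra hrp
      exact Set.disjoint_right.mp hqd ⟨r, hrp, rfl⟩ hr
    have hmem : q₀ ∈ PrimeSpectrum.zeroLocus (J : Set Γ(P, W)) := hJq
    rw [← hJ] at hmem
    refine hmem ?_
    show hW.fromSpec q₀ ∈ O'
    exact TopologicalSpace.Opens.mem_iSup.mpr ⟨_, TopologicalSpace.Opens.mem_iSup.mpr ⟨hsp, hxO _ hsp⟩⟩
  let U' : S'.Opens := S'.basicOpen r
  have hsU' : s' ∈ U' := by
    have h1 : p ∈ hV.fromSpec ⁻¹ᵁ S'.basicOpen r := by
      rw [IsAffineOpen.fromSpec_preimage_basicOpen hV r]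
      exact hr
    have h2 : hV.fromSpec p ∈ S'.basicOpen r := h1
    rwa [hV.fromSpec_primeIdealOf ⟨s', hsV⟩] at h2
  have hU'O : g' ⁻¹ᵁ U' ≤ O' := by
    intro x hx
    have hxW : x ∈ W := S'.basicOpen_le r hx
    obtain ⟨q, rfl⟩ : x ∈ Set.range hW.fromSpec := hW.range_fromSpec.symm ▸ hxW
    by_contra hq
    have hq' : (q : PrimeSpectrum Γ(P, W)) ∈ PrimeSpectrum.zeroLocus (J : Set Γ(P, W)) := by
      rw [← hJ]; exact hq
    have h1 : Spec.map σ q ∈ hV.fromSpec ⁻¹ᵁ S'.basicOpen r := by
      show hV.fromSpec (Spec.map σ q) ∈ S'.basicOpen r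
      rw [← Scheme.Hom.comp_apply, hσ, Scheme.Hom.comp_apply]
      exact hx
    rw [IsAffineOpen.fromSpec_preimage_basicOpen hV r] at h1
    exact h1 (hq' hrJ)
  -- descent to the image
  let U : S.Opens := ⟨f '' (U' : Set S'), f.isOpenMap _ U'.isOpen⟩
  refine ⟨U, ⟨s', hsU', hs'⟩, Over.OverMorphism.ext ?_⟩
  have hlift : Set.range (U'.ι ≫ f) ⊆ Set.range U.ι := by
    rintro _ ⟨z, rfl⟩
    rw [Scheme.Opens.range_ι, Scheme.Hom.comp_apply]
    exact ⟨_, z.2, rfl⟩
  let a : U'.toScheme ⟶ U.toScheme := IsOpenImmersion.lift U.ι (U'.ι ≫ f) hlift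
  have haf : a ≫ U.ι = U'.ι ≫ f := IsOpenImmersion.lift_fac _ _ _
  haveI : Flat a := MorphismProperty.of_postcomp (W := @Flat) (W' := @IsOpenImmersion) a U.ι inferInstance
    (by rw [haf]; infer_instance)
  haveI : Surjective a := ⟨fun z => by
    obtain ⟨w, hw, hw'⟩ := (z.2 : U.ι z ∈ f '' (U' : Set S'))
    refine ⟨⟨w, hw⟩, U.ι.isOpenEmbedding.injective ?_⟩
    rw [← Scheme.Hom.comp_apply, haf, Scheme.Hom.comp_apply]
    exact hw'⟩
  let c := pullback.fst (pullback.snd H.hom U.ι) a
  haveI : Flat c := MorphismProperty.pullback_fst (P := @Flat) _ a inferInstance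
  haveI : Surjective c := MorphismProperty.pullback_fst (P := @Surjective) _ a inferInstance
  haveI := Flat.epi_of_flat_of_surjective c
  apply pullback.hom_ext
  · show ((Over.pullback U.ι).map u).left ≫ pullback.fst G.hom U.ι = ((Over.pullback U.ι).map v).left ≫ _
    rw [show ((Over.pullback U.ι).map u).left ≫ pullback.fst G.hom U.ι = pullback.fst H.hom U.ι ≫ u.left from
        pullback.lift_fst _ _ _,
      show ((Over.pullback U.ι).map v).left ≫ pullback.fst G.hom U.ι = pullback.fst H.hom U.ι ≫ v.left from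
        pullback.lift_fst _ _ _, ← cancel_epi c]
    let d : pullback (pullback.snd H.hom U.ι) a ⟶ P :=
      pullback.lift (c ≫ pullback.fst H.hom U.ι) (pullback.snd _ a ≫ U'.ι) (by
        rw [Category.assoc, pullback.condition, pullback.condition_assoc, haf, Category.assoc])
    have hd : Set.range d ⊆ Set.range O'.ι := by
      rintro _ ⟨z, rfl⟩
      rw [Scheme.Opens.range_ι]
      refine hU'O ?_
      show g' (d z) ∈ U'
      rw [← Scheme.Hom.comp_apply, show d ≫ g' = pullback.snd _ a ≫ U'.ι from pullback.lift_snd _ _ _,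
        Scheme.Hom.comp_apply]
      exact (pullback.snd (pullback.snd H.hom U.ι) a z).2
    have hO' : O'.ι ≫ u' = O'.ι ≫ v' := by
      refine Scheme.hom_ext_of_forall _ _ fun z => ?_
      obtain ⟨x, hx⟩ := TopologicalSpace.Opens.mem_iSup.mp z.2
      obtain ⟨hx, hzx⟩ := TopologicalSpace.Opens.mem_iSup.mp hx
      refine ⟨O'.ι ⁻¹ᵁ O x hx, hzx, ?_⟩
      rw [← morphismRestrict_ι_assoc, ← morphismRestrict_ι_assoc, hO x hx]
    have h := congrArg (IsOpenImmersion.lift O'.ι d hd ≫ ·) hO'
    simp only [← Category.assoc, IsOpenImmersion.lift_fac] at h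
    simpa only [u', v', ← Category.assoc, show d ≫ pullback.fst H.hom f = c ≫ pullback.fst H.hom U.ι from
      pullback.lift_fst _ _ _] using h
  · exact (pullback.lift_snd _ _ _).trans (pullback.lift_snd _ _ _).symm

/-- Agreement and centrality on a fibre give agreement nearby. -/
theorem exists_nhd (hG : IsLocallyNoetherian S ∨ LocallyOfFiniteType G.hom) (hH : SGA3x.IsMultTypeFT H) {s : S}
    (hs : EqCentralAt u v s) : ∃ U : S.Opens, s ∈ U ∧ (Over.pullback U.ι).map u = (Over.pullback U.ι).map v := by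
  rcases hG with h | h
  · exact exists_nhd_of_noetherian hH hs
  · exact exists_nhd_of_lft hH hs

end Groth.Agent.Deform.MultEq
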