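import Groth.Agent.GrpSchLib.ClosedFibreFixed
import Mathlib.RingTheory.Filtration

/-!
# Actions trivial on the closed fibre of a Noetherian local test ring

The variant of `ClosedFibreFixed.fixed_of_closedFibre` in which nothing is assumed on the space acted upon: triviality
propagates to every infinitesimal neighbourhood, and the coefficients vanish by Krull's intersection theorem.
-/

set_option autoImplicit false
set_option linter.style.haveILetI false

universe u

open CategoryTheory CategoryTheory.Limits MonoidalCategory CartesianMonoidalCategory MonObj AlgebraicGeometry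

namespace Groth.Agent.Deform.MultEq

open GrpSchLib GrpSchLib.DiagActionRigid
open DSPtsLib (CoordM)
open GrpSchLib.FibreActionRigid (mem_map_of_coeff coeff_mem)
open GrpSchLib.ClosedFibreFixed (mem_of_pow_mul_mem fixed_of_dense)
open GrpSchLib.HomKernelIdeal (evalChar)

variable {S : Scheme.{u}} {R : Type u} [CommRing R] {β : Spec (CommRingCat.of R) ⟶ S}
  {G X : Over S} [GrpObj G] (a : AlgGrp.Action G X) {M : Type} [AddCommGroup M]
  (χ : ∀ (A : Type u) [CommRing A] [Algebra R A], (CoordM.{u} M →+* A) → (sp β A ⟶ G))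
  (hnat : ∀ {A A' : Type u} [CommRing A] [Algebra R A] [CommRing A'] [Algebra R A'] (φ : A →ₐ[R] A')
    (f : CoordM.{u} M →+* A), spm β φ ≫ χ A f = χ A' (φ.toRingHom.comp f))
  (hmul : ∀ {A : Type u} [CommRing A] [Algebra R A] (f g h : CoordM.{u} M →+* A),
    (∀ m, h (MonoidAlgebra.single m 1) = f (MonoidAlgebra.single m 1) * g (MonoidAlgebra.single m 1)) →
      χ A f * χ A g = χ A h)
include hnat hmul

set_option maxHeartbeats 1600000 in
/-- An action trivial over the closed point of a Noetherian local ring fixes every point with values in it. -/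
theorem fixed_of_closedFibre_noetherian [IsLocalRing R] [IsNoetherianRing R] [AddGroup.FG M]
    (hfibm : ∀ (T : Type u) [CommRing T] [Algebra R T], (∀ r ∈ IsLocalRing.maximalIdeal R, algebraMap R T r = 0) →
      ∀ (f : CoordM.{u} M →+* T) (z : sp β T ⟶ X), lift (χ T f) z ≫ a.act = z)
    (x : sp β R ⟶ X) (T : Type u) [CommRing T] [Algebra R T] (f : CoordM.{u} M →+* T) :
    lift (χ T f) (spm β (Algebra.ofId R T) ≫ x) ≫ a.act = spm β (Algebra.ofId R T) ≫ x := by
  classical
  let 𝔪 := IsLocalRing.maximalIdeal R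
  let s₀ : Spec (CommRingCat.of R) := IsLocalRing.closedPoint R
  obtain ⟨V, hV, hsV, -⟩ := exists_isAffineOpen_mem_and_subset (show β s₀ ∈ (⊤ : S.Opens) from trivial)
  obtain ⟨W, hW, hsW, -⟩ := exists_isAffineOpen_mem_and_subset (show x.left s₀ ∈ (⊤ : X.left.Opens) from trivial)
  have hgen : ∀ q : Spec (CommRingCat.of R), q ⤳ s₀ := fun q => IsLocalRing.specializes_closedPoint q
  have hxW : ∀ q, x.left q ∈ W := fun q => ((hgen q).map x.left.base.hom.continuous).mem_open W.isOpen hsW
  have hβ : ∀ q, β q ∈ V := fun q => ((hgen q).map β.base.hom.continuous).mem_open V.isOpen hsV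
  have hfix : ∀ (k : ℕ) (B : Type u) [CommRing B] [Algebra R B], (∀ l ∈ 𝔪 ^ (k + 1), algebraMap R B l = 0) →
      ∀ (f : CoordM.{u} M →+* B) (z : sp β B ⟶ X), lift (χ B f) z ≫ a.act = z := by
    intro k
    induction k with
    | zero => exact fun B _ _ hB => hfibm B fun r hr => hB r (by rwa [zero_add, pow_one])
    | succ k ih =>
      intro B _ _ hB f z
      refine step a χ hnat hmul hV hβ (L := 𝔪 ^ (k + 1)) (fun l hl l' hl' => hB _ ?_) ih z f
      exact Ideal.pow_le_pow_right (show k + 1 + 1 ≤ k + 1 + (k + 1) by omega)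
        (by rw [pow_add]; exact Ideal.mul_mem_mul hl hl')
  let xT : ∀ (T : Type u) [CommRing T] [Algebra R T], sp β T ⟶ X := fun T _ _ => spm β (Algebra.ofId R T) ≫ x
  have hxT : ∀ {T T' : Type u} [CommRing T] [Algebra R T] [CommRing T'] [Algebra R T'] (φ : T →ₐ[R] T'),
      spm β φ ≫ xT T = xT T' := fun {T T'} _ _ _ _ φ => by
    show spm β φ ≫ spm β (Algebra.ofId R T) ≫ x = _
    rw [← Category.assoc, spm_comp]
    congr 2
    exact Subsingleton.elim _ _
  have hxTW : ∀ (T : Type u) [CommRing T] [Algebra R T] (q), (xT T).left q ∈ W := fun T _ _ q => hxW _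
  -- the universal point and the principal open
  let A := MonoidAlgebra R (Multiplicative M)
  let mA : Ideal A := 𝔪.map (algebraMap R A)
  let u₀ := univPt R (AddMonoidHom.id M)
  let y : sp β A ⟶ X := lift (χ A u₀) (xT A) ≫ a.act
  let D : (Spec (CommRingCat.of A)).Opens := y.left ⁻¹ᵁ W
  have hDm : ∀ q : PrimeSpectrum A, mA ≤ q.asIdeal → q ∈ D := by
    intro q hq
    let φ : A →ₐ[R] A ⧸ mA := Ideal.Quotient.mkₐ R mA
    have hq' : q ∈ Set.range (spm β φ).left := by
      refine ⟨⟨q.asIdeal.map (Ideal.Quotient.mk mA), Ideal.map_isPrime_of_surjective Ideal.Quotient.mk_surjective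
        (by rw [Ideal.mk_ker]; exact hq)⟩, PrimeSpectrum.ext ?_⟩
      show Ideal.comap (Ideal.Quotient.mk mA) (Ideal.map (Ideal.Quotient.mk mA) q.asIdeal) = q.asIdeal
      rw [Ideal.comap_map_of_surjective _ Ideal.Quotient.mk_surjective, ← RingHom.ker_eq_comap_bot, Ideal.mk_ker]
      exact sup_eq_left.mpr hq
    obtain ⟨p, hp⟩ := hq'
    have h : spm β φ ≫ y = spm β φ ≫ xT A := by
      show spm β φ ≫ lift _ _ ≫ a.act = _
      rw [← Category.assoc, comp_lift, hnat, hxT]
      refine hfibm _ (fun r hr => ?_) _ _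
      rw [IsScalarTower.algebraMap_apply R A (A ⧸ mA)]
      exact Ideal.Quotient.eq_zero_iff_mem.mpr (Ideal.mem_map_of_mem _ hr)
    have h' : (spm β φ ≫ y).left p = (spm β φ ≫ xT A).left p := congrArg (fun m : sp β (A ⧸ mA) ⟶ X => m.left.base p) h
    show y.left q ∈ W
    rw [← hp]
    show (spm β φ ≫ y).left p ∈ W
    rw [h']
    exact hxTW A _
  obtain ⟨h, hh, hhD⟩ : ∃ h : A, h - 1 ∈ mA ∧ ∀ q : PrimeSpectrum A, h ∉ q.asIdeal → q ∈ D := by
    obtain ⟨J, hJ⟩ := (PrimeSpectrum.isClosed_iff_zeroLocus_ideal _).mp D.isOpen.isClosed_compl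
    have hsup : J ⊔ mA = ⊤ := by
      by_contra hne
      obtain ⟨Q, hQ, hle⟩ := Ideal.exists_le_maximal _ hne
      have hQD : (⟨Q, hQ.isPrime⟩ : PrimeSpectrum A) ∈ PrimeSpectrum.zeroLocus (J : Set A) := le_sup_left.trans hle
      rw [← hJ] at hQD
      exact hQD (hDm _ (le_sup_right.trans hle))
    obtain ⟨i, hi, j, hj, hij⟩ := Submodule.mem_sup.mp ((Ideal.eq_top_iff_one _).mp hsup)
    refine ⟨i, ?_, fun q hq => ?_⟩
    · rw [← hij, sub_add_cancel_left]
      exact neg_mem hj
    · by_contra hqD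
      have : q ∈ PrimeSpectrum.zeroLocus (J : Set A) := by rw [← hJ]; exact hqD
      exact hq (this hi)
  let Ah := Localization.Away h
  let φh : A →ₐ[R] Ah := IsScalarTower.toAlgHom R A Ah
  let y' : sp β Ah ⟶ X := spm β φh ≫ y
  have hyW : ∀ q, y'.left q ∈ W := fun q => hhD _ fun hm => by
    have hu : IsUnit (algebraMap A Ah h) := IsLocalization.Away.algebraMap_isUnit h
    exact (q : PrimeSpectrum Ah).isPrime.ne_top (Ideal.eq_top_of_isUnit_mem _ hm hu)
  obtain ⟨ex, hex⟩ := exists_ev hW (xT Ah) (hxTW Ah)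
  obtain ⟨ey, hey⟩ := exists_ev hW y' hyW
  -- the difference lies in every power of the maximal ideal
  have hev : ∀ k v, (ey.hom v - ex.hom v : Ah) ∈ (𝔪 ^ (k + 1)).map (algebraMap R Ah) := fun k => by
    refine ev_sub_mem hW ?_ hex hey
    show redMap (𝔪 ^ (k + 1)) Ah ≫ xT Ah = redMap (𝔪 ^ (k + 1)) Ah ≫ spm β φh ≫ lift _ _ ≫ a.act
    rw [← Category.assoc (spm β φh), comp_lift, hnat, hxT]
    exact (fix_mod a χ hnat (hfix k) _ (xT Ah)).symm
  have hzero : ∀ v, ey.hom v = ex.hom v := by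
    intro v
    obtain ⟨j, num, hnum⟩ := IsLocalization.Away.surj h (ey.hom v - ex.hom v : Ah)
    have hpow : ∀ k, num ∈ (𝔪 ^ k).map (algebraMap R A) := by
      intro k
      induction k with
      | zero => rw [pow_zero, Ideal.one_eq_top, Ideal.map_top]; trivial
      | succ k ih =>
        have h2 : algebraMap A Ah num ∈ ((𝔪 ^ (k + 1)).map (algebraMap R A)).map (algebraMap A Ah) := by
          rw [Ideal.map_map, ← IsScalarTower.algebraMap_eq R A Ah, ← hnum]
          exact Ideal.mul_mem_right _ _ (hev k v)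
        obtain ⟨⟨⟨n, hn⟩, ⟨_, i, rfl⟩⟩, he⟩ :=
          (IsLocalization.mem_map_algebraMap_iff (Submonoid.powers h) Ah).mp h2
        rw [← map_mul] at he
        obtain ⟨⟨_, l, rfl⟩, hl⟩ := (IsLocalization.eq_iff_exists (Submonoid.powers h) Ah).mp he
        have hl' : h ^ l * (num * h ^ i) = h ^ l * n := hl
        refine mem_of_pow_mul_mem (m := mA) (C := (𝔪 ^ k).map (algebraMap R A))
          (L := (𝔪 ^ (k + 1)).map (algebraMap R A)) ?_ hh ih (j := l + i) ?_
        · rw [← Ideal.map_mul, pow_succ']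
        · rw [pow_add h, _root_.mul_assoc, _root_.mul_comm (h ^ i), hl']
          exact Ideal.mul_mem_left _ _ hn
    have hn0 : num = 0 := by
      ext m
      have : num.coeff m ∈ ⨅ k : ℕ, 𝔪 ^ k := Ideal.mem_iInf.mpr fun k => coeff_mem (hpow k) m
      rw [Ideal.iInf_pow_eq_bot_of_isLocalRing _ (IsLocalRing.maximalIdeal.isMaximal R).ne_top] at this
      simpa using this
    rw [hn0, map_zero] at hnum
    exact sub_eq_zero.mp (((IsLocalization.Away.algebraMap_isUnit h (S := Ah)).pow j).mul_left_eq_zero.mp hnum)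
  have hy : y' = xT Ah := by
    refine Over.OverMorphism.ext ?_
    rw [← hey, ← hex]
    congr 2
    exact CommRingCat.hom_ext (RingHom.ext hzero)
  refine fixed_of_dense a χ hnat hmul hh (xT T) (fun T' _ _ φ f' hu => ?_) f
  rw [hxT]
  let ρ₀ : A →ₐ[R] T' := evalChar (R := R) f'
  have hpow : ∀ y : Submonoid.powers h, IsUnit (ρ₀ y) := by
    rintro ⟨_, n, rfl⟩
    show IsUnit (ρ₀ (h ^ n))
    rw [map_pow]
    exact hu.pow n
  let ρ : Ah →ₐ[R] T' := IsLocalization.liftAlgHom (M := Submonoid.powers h) (f := ρ₀) hpow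
  have hρ : ρ.comp φh = ρ₀ := AlgHom.ext fun z => IsLocalization.lift_eq _ z
  have h0 := congrArg (spm β ρ ≫ ·) hy
  change spm β ρ ≫ spm β φh ≫ lift _ _ ≫ a.act = _ at h0
  rw [← Category.assoc, spm_comp, hρ, ← Category.assoc, comp_lift, hnat, hxT, hxT] at h0
  rwa [show ρ₀.toRingHom.comp u₀ = f' from HomKernelIdeal.evalChar_univ f'] at h0

end Groth.Agent.Deform.MultEq
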