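import Groth.Agent.Deform.MultEq.Main
import Groth.Agent.Deform.DiagMaps
import Groth.Agent.Deform.TorusAlg
import Groth.Agent.Deform.SplitQuot

/-!
# Subgroups of multiplicative type which agree on a central fibre agree nearby (IX 5.4)
-/

set_option autoImplicit false
set_option linter.style.haveILetI false
set_option linter.unusedSectionVars false
set_option backward.isDefEq.respectTransparency false
set_option backward.isDefEq.respectTransparency.types false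

universe u

open CategoryTheory CategoryTheory.Limits MonoidalCategory CartesianMonoidalCategory AlgebraicGeometry

open scoped MonObj

attribute [local instance] CategoryTheory.Hom.monoid CategoryTheory.Hom.group

namespace Groth.Agent.Deform.MultEq

open DSPtsLib (CoordM pt theta theta_bijective)
open GrpSchLib.DiagActionRigid (sp spm)

variable {S : Scheme.{u}} {H₁ H₂ G : Over S} [GrpObj H₁] [GrpObj H₂] [GrpObj G]

/-- `i₁` factors through `i₂` over `g`. -/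
def Le (i₁ : H₁ ⟶ G) (i₂ : H₂ ⟶ G) {T : Scheme.{u}} (g : T ⟶ S) : Prop :=
  ∀ (Y : Over S) (_ : Y ⟶ Over.mk g) (x : Y ⟶ H₁), ∃ y : Y ⟶ H₂, y ≫ i₂ = x ≫ i₁

theorem theta_map {T : Scheme.{u}} (g : T ⟶ S) {A B : Over S} {X : Over T} (x : X ⟶ Red.bc g A) (w : A ⟶ B) :
    theta g (x ≫ (Over.pullback g).map w) = theta g x ≫ w :=
  (Over.mapPullbackAdj g).homEquiv_naturality_right_symm x w

theorem theta_map_one {T : Scheme.{u}} (g : T ⟶ S) {A B : Over S} (w : A ⟶ B) :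
    theta g ((Over.pullback g).map w) = theta g (𝟙 (Red.bc g A)) ≫ w := by
  conv_lhs => rw [← Category.id_comp ((Over.pullback g).map w)]
  exact theta_map g _ w

theorem Le.exists_map {i₁ : H₁ ⟶ G} {i₂ : H₂ ⟶ G} {T : Scheme.{u}} {g : T ⟶ S} (h : Le i₁ i₂ g) :
    ∃ θ : Red.bc g H₁ ⟶ Red.bc g H₂, θ ≫ (Over.pullback g).map i₂ = (Over.pullback g).map i₁ := by
  obtain ⟨y, hy⟩ := h ((Over.map g).obj (Red.bc g H₁)) (Over.homMk (Red.bc g H₁).hom rfl) (theta g (𝟙 _))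
  obtain ⟨θ, hθ⟩ := (theta_bijective (H := H₂) g).2 y
  refine ⟨θ, (theta_bijective (H := G) g).1 ?_⟩
  rw [theta_map, theta_map_one, hθ, hy]

theorem Le.of_map {i₁ : H₁ ⟶ G} {i₂ : H₂ ⟶ G} {T : Scheme.{u}} {g : T ⟶ S} (θ : Red.bc g H₁ ⟶ Red.bc g H₂)
    (hθ : θ ≫ (Over.pullback g).map i₂ = (Over.pullback g).map i₁) : Le i₁ i₂ g := by
  intro Y q x
  let X' := Over.mk q.left
  let e : Y ⟶ (Over.map g).obj X' := Over.homMk (𝟙 _) (by
    show 𝟙 _ ≫ q.left ≫ g = Y.hom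
    rw [Category.id_comp]; exact Over.w q)
  let e' : (Over.map g).obj X' ⟶ Y := Over.homMk (𝟙 _) (by
    show 𝟙 _ ≫ Y.hom = q.left ≫ g
    rw [Category.id_comp]; exact (Over.w q).symm)
  have hee : e ≫ e' = 𝟙 _ := Over.OverMorphism.ext (Category.id_comp _)
  obtain ⟨x₁, hx₁⟩ := (theta_bijective (H := H₁) (Y := X') g).2 (e' ≫ x)
  refine ⟨e ≫ theta g (x₁ ≫ θ), ?_⟩
  rw [Category.assoc, ← theta_map, Category.assoc, hθ, theta_map, hx₁, Category.assoc, reassoc_of% hee]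

theorem Le.comp {i₁ : H₁ ⟶ G} {i₂ : H₂ ⟶ G} {T T' : Scheme.{u}} {g : T ⟶ S} (h : Le i₁ i₂ g) (l : T' ⟶ T) :
    Le i₁ i₂ (l ≫ g) := fun Y q x => h Y (Over.homMk (q.left ≫ l) (by
  show (q.left ≫ l) ≫ g = Y.hom
  rw [Category.assoc]
  exact Over.w q)) x

variable (i₁ : H₁ ⟶ G) (i₂ : H₂ ⟶ G) [IsMonHom i₁] [IsMonHom i₂] [Mono i₂]

/-- The hypothesis on a fibre: `i₁` is central there. -/
def CentralAt (s : S) : Prop :=
  ∀ (X : Over (Spec (S.residueField s))) (g : X ⟶ Red.bc (S.fromSpecResidueField s) G)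
    (h : X ⟶ Red.bc (S.fromSpecResidueField s) H₁),
    g * (h ≫ (Over.pullback (S.fromSpecResidueField s)).map i₁) =
      (h ≫ (Over.pullback (S.fromSpecResidueField s)).map i₁) * g

set_option maxHeartbeats 1600000 in
/-- An inclusion on a central fibre extends to a neighbourhood. -/
theorem exists_le_nhd (hG : IsLocallyNoetherian S ∨ LocallyOfFiniteType G.hom)
    (h₁ : SGA3x.IsMultTypeFT H₁) (h₂ : SGA3x.IsMultTypeFT H₂) {s : S} (hc : CentralAt i₁ s)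
    (hs : Le i₁ i₂ (S.fromSpecResidueField s)) : ∃ U : S.Opens, s ∈ U ∧ Le i₁ i₂ U.ι := by
  obtain ⟨S₁, f₁, M₁, iM₁, hf₁, ⟨s₁, hs₁⟩, hM₁, ⟨e₁⟩⟩ := QuasiIsotrivial.exists_etale_split h₁ s
  obtain ⟨S₂, f₂, M₂, iM₂, hf₂, ⟨s₂, hs₂⟩, hM₂, ⟨e₂⟩⟩ :=
    QuasiIsotrivial.exists_etale_split (GrpSchLib.MultTypeBC.isMultTypeFT_bc f₁ h₂) s₁
  haveI := hf₁; haveI := hf₂; haveI := hM₁; haveI := hM₂
  let f := f₂ ≫ f₁
  have hfs : f s₂ = s := by rw [Scheme.Hom.comp_apply, hs₂, hs₁]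
  obtain ⟨E₁⟩ : Nonempty (Grp.mk (Red.bc f H₁) ≅ Grp.mk (Red.DS S₂ M₁)) := by
    obtain ⟨a₁⟩ := GrpSchLib.MultTypeBC.bc_bc f₂ f₁ H₁
    obtain ⟨a₂⟩ := GrpSchLib.MultTypeBC.bc_iso f₂ e₁
    exact ⟨a₁.symm ≪≫ a₂ ≪≫ Grp.mkIso' (DiagMaps.bcDS f₂ M₁)⟩
  obtain ⟨E₂⟩ : Nonempty (Grp.mk (Red.bc f H₂) ≅ Grp.mk (Red.DS S₂ M₂)) := by
    obtain ⟨a₁⟩ := GrpSchLib.MultTypeBC.bc_bc f₂ f₁ H₂
    exact ⟨a₁.symm ≪≫ e₂⟩
  let G' := Red.bc f G
  let d₁ : Red.DS S₂ M₁ ⟶ Red.bc f H₁ := E₁.inv.hom.hom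
  let c₁ : Red.bc f H₁ ⟶ Red.DS S₂ M₁ := E₁.hom.hom.hom
  let d₂ : Red.DS S₂ M₂ ⟶ Red.bc f H₂ := E₂.inv.hom.hom
  let c₂ : Red.bc f H₂ ⟶ Red.DS S₂ M₂ := E₂.hom.hom.hom
  have hc₁ : c₁ ≫ d₁ = 𝟙 _ := congrArg (fun m => m.hom.hom) E₁.hom_inv_id
  have hc₂ : c₂ ≫ d₂ = 𝟙 _ := congrArg (fun m => m.hom.hom) E₂.hom_inv_id
  have hd₂ : d₂ ≫ c₂ = 𝟙 _ := congrArg (fun m => m.hom.hom) E₂.inv_hom_id
  haveI : IsMonHom d₁ := E₁.inv.hom.isMonHom_hom
  haveI : IsMonHom d₂ := E₂.inv.hom.isMonHom_hom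
  haveI : Mono d₂ := (SplitMono.mk c₂ hd₂).mono
  let j₁ : Red.DS S₂ M₁ ⟶ G' := d₁ ≫ (Over.pullback f).map i₁
  let j₂ : Red.DS S₂ M₂ ⟶ G' := d₂ ≫ (Over.pullback f).map i₂
  haveI : IsMonHom j₁ := inferInstanceAs (IsMonHom (d₁ ≫ (Over.pullback f).map i₁))
  haveI : IsMonHom j₂ := inferInstanceAs (IsMonHom (d₂ ≫ (Over.pullback f).map i₂))
  haveI : Mono j₂ := inferInstanceAs (Mono (d₂ ≫ (Over.pullback f).map i₂))
  -- the fibre at `s₂`
  let b := S₂.fromSpecResidueField s₂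
  have hres : ∃ r : Spec (S₂.residueField s₂) ⟶ Spec (S.residueField s), r ≫ S.fromSpecResidueField s = b ≫ f := by
    subst hfs
    exact ⟨Spec.map (f.residueFieldMap s₂), Scheme.Hom.SpecMap_residueFieldMap_fromSpecResidueField _ _⟩
  obtain ⟨r, hr⟩ := hres
  let A := Red.bc b (Red.DS S₂ M₁)
  let B := Red.bc b (Red.DS S₂ M₂)
  let z : (Over.map b).obj A ⟶ Red.DS S₂ M₁ := theta b (𝟙 A)
  let q₀ : (Over.map f).obj ((Over.map b).obj A) ⟶ Over.mk (S.fromSpecResidueField s) :=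
    Over.homMk (A.hom ≫ r) (by
      show (A.hom ≫ r) ≫ S.fromSpecResidueField s = (A.hom ≫ b) ≫ f
      rw [Category.assoc, hr, Category.assoc])
  obtain ⟨w, hw⟩ := hs _ q₀ (theta f (z ≫ d₁))
  obtain ⟨w', rfl⟩ := (theta_bijective f).2 w
  obtain ⟨l, hl⟩ := (theta_bijective (H := Red.DS S₂ M₂) b).2 (w' ≫ c₂)
  have hw' : w' ≫ (Over.pullback f).map i₂ = (z ≫ d₁) ≫ (Over.pullback f).map i₁ := by
    apply (theta_bijective f).1
    rw [theta_map, theta_map, hw]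
  have hl' : l ≫ (Over.pullback b).map j₂ = (Over.pullback b).map j₁ := by
    apply (theta_bijective b).1
    rw [theta_map, theta_map_one, hl]
    show (w' ≫ c₂) ≫ d₂ ≫ (Over.pullback f).map i₂ = z ≫ d₁ ≫ (Over.pullback f).map i₁
    rw [Category.assoc, reassoc_of% hc₂, hw', Category.assoc]
  haveI : IsMonHom l := Deform.isMonHom_of_comp l ((Over.pullback b).map j₂) (i := (Over.pullback b).map j₁) hl'
  -- the map of character groups
  let K : Type u := S₂.residueField s₂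
  let Z₁ := DiagMaps.bcDS b M₁
  let Z₂ := DiagMaps.bcDS b M₂
  let l' : Red.DS (Spec (CommRingCat.of K)) M₁ ⟶ Red.DS (Spec (CommRingCat.of K)) M₂ := Z₁.inv ≫ l ≫ Z₂.hom
  haveI : IsMonHom l' := inferInstanceAs (IsMonHom (Z₁.inv ≫ l ≫ Z₂.hom))
  obtain ⟨φ, hφ⟩ := DiagMaps.exists_rep (DiagMaps.chartDS (𝟙 (Spec (CommRingCat.of K))) M₁)
    (DiagMaps.chartDS (𝟙 (Spec (CommRingCat.of K))) M₂) l'
  have hlφ : l' = Red.DSmap (Spec (CommRingCat.of K)) φ := by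
    refine DiagMaps.hom_ext_pt _ _ fun T _ j c => ?_
    letI : Algebra K T := (Spec.preimage j).hom.toAlgebra
    have hj : Spec.map (CommRingCat.ofHom (algebraMap K T)) ≫ 𝟙 (Spec (CommRingCat.of K)) = j :=
      (Category.comp_id _).trans (Spec.map_preimage j)
    have h : pt (Spec.map (CommRingCat.ofHom (algebraMap K T)) ≫ 𝟙 (Spec (CommRingCat.of K))) c ≫ l' =
        pt (Spec.map (CommRingCat.ofHom (algebraMap K T)) ≫ 𝟙 (Spec (CommRingCat.of K))) c ≫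
          Red.DSmap (Spec (CommRingCat.of K)) φ := (hφ T c).trans (DiagMaps.rep_DSmap φ T c).symm
    rw [hj] at h
    exact h
  let θ : Red.DS S₂ M₁ ⟶ Red.DS S₂ M₂ := Red.DSmap S₂ φ
  have hθl : (Over.pullback b).map θ = l := by
    rw [← cancel_mono Z₂.hom, DiagMaps.bcDS_naturality]
    exact (congrArg (Z₁.hom ≫ ·) hlφ.symm).trans (Z₁.hom_inv_id_assoc _)
  haveI : IsMonHom (θ ≫ j₂) := inferInstance
  have hEq : EqCentralAt j₁ (θ ≫ j₂) s₂ := by
    refine ⟨(by show (Over.pullback b).map j₁ = (Over.pullback b).map (θ ≫ j₂); exact ((Functor.map_comp _ θ j₂).trans ((congrArg (· ≫ _) hθl).trans hl')).symm),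
      fun X g h => ?_⟩
    apply (theta_bijective b).1
    rw [DSPtsLib.theta_mul, DSPtsLib.theta_mul, theta_map]
    show theta b g * (theta b h ≫ d₁ ≫ (Over.pullback f).map i₁) =
      (theta b h ≫ d₁ ≫ (Over.pullback f).map i₁) * theta b g
    apply (theta_bijective f).1
    rw [DSPtsLib.theta_mul, DSPtsLib.theta_mul, ← Category.assoc, theta_map]
    exact (GrpSchLib.ConjCentral.fixed_iff i₁ _ _).mp (GrpSchLib.ConjCentral.fixed_of_fibre hc _
      (Over.homMk (X.hom ≫ r) (by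
        show (X.hom ≫ r) ≫ S.fromSpecResidueField s = (X.hom ≫ b) ≫ f
        rw [Category.assoc, hr, Category.assoc])) _ _)
  have hG' : IsLocallyNoetherian S₂ ∨ LocallyOfFiniteType G'.hom := hG.imp
    (fun h => by haveI := h; exact LocallyOfFiniteType.isLocallyNoetherian f)
    (fun h => MorphismProperty.pullback_snd (P := @LocallyOfFiniteType) G.hom f h)
  obtain ⟨U₂, hsU₂, hU₂⟩ := exists_nhd hG' (SplitQuot.isMultTypeFT_DS S₂ M₁) hEq
  -- descent to the image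
  let U : S.Opens := ⟨f '' (U₂ : Set S₂), f.isOpenMap _ U₂.isOpen⟩
  refine ⟨U, ⟨s₂, hsU₂, hfs⟩, fun Y q x => ?_⟩
  have hlift : Set.range (U₂.ι ≫ f) ⊆ Set.range U.ι := by
    rintro _ ⟨y, rfl⟩
    rw [Scheme.Opens.range_ι, Scheme.Hom.comp_apply]
    exact ⟨_, y.2, rfl⟩
  let a : U₂.toScheme ⟶ U.toScheme := IsOpenImmersion.lift U.ι (U₂.ι ≫ f) hlift
  have haf : a ≫ U.ι = U₂.ι ≫ f := IsOpenImmersion.lift_fac _ _ _
  haveI : Etale a := by
    haveI : Etale (a ≫ U.ι) := by rw [haf]; infer_instance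
    exact MorphismProperty.of_postcomp (W := @Etale) (W' := @IsOpenImmersion) a U.ι inferInstance ‹_›
  haveI : Surjective a := ⟨fun y => by
    obtain ⟨y₂, hy, hy'⟩ := (y.2 : U.ι y ∈ f '' (U₂ : Set S₂))
    refine ⟨⟨y₂, hy⟩, U.ι.isOpenEmbedding.injective ?_⟩
    rw [← Scheme.Hom.comp_apply, haf, Scheme.Hom.comp_apply]
    exact hy'⟩
  let P : Over S := Over.mk (pullback.fst q.left a ≫ Y.hom)
  let p : P ⟶ Y := Over.homMk (pullback.fst q.left a) rfl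
  have hp : FpqcDescLib.Covers p.left := by
    show FpqcDescLib.Covers (pullback.fst q.left a)
    haveI : Flat (pullback.fst q.left a) := MorphismProperty.pullback_fst (P := @Flat) _ a inferInstance
    haveI : Surjective (pullback.fst q.left a) := MorphismProperty.pullback_fst (P := @Surjective) _ a inferInstance
    haveI : LocallyOfFinitePresentation (pullback.fst q.left a) :=
      MorphismProperty.pullback_fst (P := @LocallyOfFinitePresentation) _ a inferInstance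
    exact FpqcDescLib.covers_of_isCovering (FpqcDescLib.isCovering_of_lfp _)
  haveI := hp.over_epi
  let Y₀ : Over U₂.toScheme := Over.mk (pullback.snd q.left a)
  let t : P ⟶ (Over.map f).obj ((Over.map U₂.ι).obj Y₀) := Over.homMk (𝟙 _) (by
    show 𝟙 _ ≫ (pullback.snd q.left a ≫ U₂.ι) ≫ f = pullback.fst q.left a ≫ Y.hom
    rw [Category.id_comp, Category.assoc, ← haf, ← pullback.condition_assoc]
    exact congrArg (pullback.fst q.left a ≫ ·) (Over.w q))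
  let t' : (Over.map f).obj ((Over.map U₂.ι).obj Y₀) ⟶ P := Over.homMk (𝟙 _) (by
    show 𝟙 _ ≫ pullback.fst q.left a ≫ Y.hom = (pullback.snd q.left a ≫ U₂.ι) ≫ f
    rw [Category.id_comp, Category.assoc, ← haf, ← pullback.condition_assoc]
    exact (congrArg (pullback.fst q.left a ≫ ·) (Over.w q)).symm)
  have htt : t ≫ t' = 𝟙 _ := Over.OverMorphism.ext (Category.id_comp _)
  obtain ⟨y, hy⟩ := (theta_bijective (H := H₁) f).2 (t' ≫ p ≫ x)
  obtain ⟨y', hy'⟩ := (theta_bijective (H := Red.DS S₂ M₁) U₂.ι).2 (y ≫ c₁)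
  have hj : (y ≫ c₁ ≫ θ) ≫ j₂ = y ≫ (Over.pullback f).map i₁ := by
    have h := congrArg (fun m => theta U₂.ι (y' ≫ m)) hU₂
    simp only [theta_map, hy'] at h
    rw [show y ≫ (Over.pullback f).map i₁ = (y ≫ c₁) ≫ j₁ by simp only [j₁, Category.assoc, reassoc_of% hc₁], h]
    simp only [Category.assoc]
  obtain ⟨wP, hwP⟩ : ∃ wP : P ⟶ H₂, wP ≫ i₂ = p ≫ x ≫ i₁ := by
    refine ⟨t ≫ theta f (y ≫ c₁ ≫ θ ≫ d₂), ?_⟩
    rw [Category.assoc, ← theta_map, show (y ≫ c₁ ≫ θ ≫ d₂) ≫ (Over.pullback f).map i₂ = (y ≫ c₁ ≫ θ) ≫ j₂ by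
      simp only [j₂, Category.assoc], hj, theta_map, hy, Category.assoc, Category.assoc, reassoc_of% htt]
  obtain ⟨m, hm, -⟩ := hp.over_desc wP fun T a b hab => by
    rw [← cancel_mono i₂, Category.assoc, Category.assoc, hwP, reassoc_of% hab]
  exact ⟨m, by rw [← cancel_epi p, reassoc_of% hm, hwP]⟩

omit [Mono i₂] in
/-- Subgroups of multiplicative type equal on a central fibre are equal nearby. -/
theorem exists_iso_nhd [Mono i₁] [Mono i₂] (hG : IsLocallyNoetherian S ∨ LocallyOfFiniteType G.hom)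
    (h₁ : SGA3x.IsMultTypeFT H₁) (h₂ : SGA3x.IsMultTypeFT H₂) {s : S} (hc : CentralAt i₁ s)
    (ψ : Red.bc (S.fromSpecResidueField s) H₁ ≅ Red.bc (S.fromSpecResidueField s) H₂)
    (hψ : ψ.hom ≫ (Over.pullback (S.fromSpecResidueField s)).map i₂ = (Over.pullback (S.fromSpecResidueField s)).map i₁) :
    ∃ U : S.Opens, s ∈ U ∧ ∃ ψ' : Red.bc U.ι H₁ ≅ Red.bc U.ι H₂,
      ψ'.hom ≫ (Over.pullback U.ι).map i₂ = (Over.pullback U.ι).map i₁ := by
  have hψ' : ψ.inv ≫ (Over.pullback (S.fromSpecResidueField s)).map i₁ =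
      (Over.pullback (S.fromSpecResidueField s)).map i₂ := by rw [← hψ, ψ.inv_hom_id_assoc]
  have hc₂ : CentralAt i₂ s := fun X g h => by
    rw [← hψ', ← Category.assoc]
    exact hc X g (h ≫ ψ.inv)
  obtain ⟨U, hU, hle⟩ := exists_le_nhd i₁ i₂ hG h₁ h₂ hc (Le.of_map ψ.hom hψ)
  obtain ⟨U', hU', hle'⟩ := exists_le_nhd i₂ i₁ hG h₂ h₁ hc₂ (Le.of_map ψ.inv hψ')
  have h : Le i₁ i₂ (U ⊓ U').ι := by
    have h := hle.comp (S.homOfLE (inf_le_left : U ⊓ U' ≤ U))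
    rwa [Scheme.homOfLE_ι] at h
  have h' : Le i₂ i₁ (U ⊓ U').ι := by
    have h := hle'.comp (S.homOfLE (inf_le_right : U ⊓ U' ≤ U'))
    rwa [Scheme.homOfLE_ι] at h
  obtain ⟨θ, hθ⟩ := h.exists_map
  obtain ⟨θ', hθ'⟩ := h'.exists_map
  haveI : Mono ((Over.pullback (U ⊓ U').ι).map i₁) := inferInstance
  haveI : Mono ((Over.pullback (U ⊓ U').ι).map i₂) := inferInstance
  exact ⟨U ⊓ U', ⟨hU, hU'⟩, ⟨θ, θ',
    by rw [← cancel_mono ((Over.pullback (U ⊓ U').ι).map i₁), Category.assoc, hθ', hθ, Category.id_comp],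
    by rw [← cancel_mono ((Over.pullback (U ⊓ U').ι).map i₂), Category.assoc, hθ, hθ', Category.id_comp]⟩, hθ⟩

end Groth.Agent.Deform.MultEq
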